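import Groth.Agent.Surf.K340.ExtTwo
import Groth.Agent.Flat2H.ThickFibre
import Groth.Agent.Dcoh.MonDual
import Groth.Agent.Dcoh.MonPull292

/-!
# Vanishing of `Ext^i(A, G)` on an isomorphic model (helper506; density node of S16926)
-/

set_option autoImplicit false
universe u

open CategoryTheory CategoryTheory.Limits AlgebraicGeometry MonoidalCategory

namespace K506.ExtModel

open scoped Groth.Agent.Dcoh.MonCat
open Groth.Agent

/-- Exact pairings pull back. -/
theorem nonempty_pairing_pull {X W : Scheme.{u}} (ρ : W ⟶ X) (A E : X.Modules) [ExactPairing A E] :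
    Nonempty (ExactPairing ((Scheme.Modules.pullback ρ).obj A) ((Scheme.Modules.pullback ρ).obj E)) := by
  let _ := Dcoh.MonPull.monPull ρ
  exact ⟨Dcoh.MonDual.mapExactPairing (Scheme.Modules.pullback ρ) A E⟩

/-- Tensor products pull back. -/
theorem nonempty_tensor_pull {X W : Scheme.{u}} (ρ : W ⟶ X) (A E : X.Modules) :
    Nonempty ((Scheme.Modules.pullback ρ).obj (CohB1.tensorMod A E) ≅
      CohB1.tensorMod ((Scheme.Modules.pullback ρ).obj A) ((Scheme.Modules.pullback ρ).obj E)) := by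
  let _ := Dcoh.MonPull.monPull ρ
  exact ⟨(Functor.Monoidal.μIso (Scheme.Modules.pullback ρ) A E).symm⟩

/-- Vanishing of `Ext^i(A', G')` for `A' ≅ ρ^* A`, `G' ≅ ρ^* G` from the vanishing of `H^i(G ⊗ A^∨)`. -/
theorem ext_model {X W : Scheme.{u}} (ρ : W ⟶ X) [IsIso ρ] {A E G : X.Modules} [ExactPairing A E]
    [ExactPairing E A] (hQ : Coh.IsQCoh (CohB1.tensorMod G E)) (i : ℕ)
    (h : Subsingleton (Coh.HH X (CohB1.tensorMod G E) i)) {A' G' : W.Modules}
    (eA : A' ≅ (Scheme.Modules.pullback ρ).obj A) (eG : G' ≅ (Scheme.Modules.pullback ρ).obj G)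
    [HasExt.{u} W.Modules] : Subsingleton (Abelian.Ext.{u} A' G' i) := by
  obtain ⟨p1⟩ := nonempty_pairing_pull ρ A E
  obtain ⟨p2⟩ := nonempty_pairing_pull ρ E A
  obtain ⟨e⟩ := nonempty_tensor_pull ρ G E
  have h1 : Subsingleton (Coh.HH W (CohB1.tensorMod ((Scheme.Modules.pullback ρ).obj G)
      ((Scheme.Modules.pullback ρ).obj E)) i) :=
    Fga.HShift.subsingleton_of_iso e i ((Flat2H.ThickFibre.subsingleton_HH_pullback_iff ρ _ hQ i).2 h)
  have h2 := (K340.ExtTwo.ext_iff_HH ((Scheme.Modules.pullback ρ).obj A) ((Scheme.Modules.pullback ρ).obj E)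
    ((Scheme.Modules.pullback ρ).obj G) i).2 h1
  exact ((K290.ExtLF.extLeft eA.symm _ i).trans (K290.ExtLF.extRight A' eG.symm i)).symm.toEquiv.subsingleton

theorem hom_subsingleton_of_ext {W : Scheme.{u}} {A' G' : W.Modules} [HasExt.{u} W.Modules]
    (h : Subsingleton (Abelian.Ext.{u} A' G' 0)) : Subsingleton (A' ⟶ G') :=
  Abelian.Ext.homEquiv₀.symm.subsingleton

end K506.ExtModel
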