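import Groth.Agent.BunMod.K506.LocFree

/-!
# Fibres over rational points (helper506; density node of S16926)
-/

set_option autoImplicit false
universe u

open CategoryTheory CategoryTheory.Limits AlgebraicGeometry TopologicalSpace

namespace K506.FibModel

/-- Local freeness of the fibre over a rational point, in terms of any model. -/
theorem fiber_flf {k : Type u} [Field k] {W T : Scheme.{u}} (p : W ⟶ T) (σ : T ⟶ Spec (CommRingCat.of k))
    (t : Spec (CommRingCat.of k) ⟶ T) (ht : t ≫ σ = 𝟙 _) {P : Scheme.{u}} {a : P ⟶ W}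
    {b : P ⟶ Spec (CommRingCat.of k)} (H : IsPullback a b p t) {G : W.Modules}
    (h : FlatMod.IsFinLocFree ((Scheme.Modules.pullback a).obj G)) (z : Spec (CommRingCat.of k)) :
    FlatMod.IsFinLocFree ((Scheme.Modules.pullback (p.fiberι (t z))).obj G) := by
  obtain ⟨⟨x, φ⟩, hφ⟩ := (T.SpecToEquivOfField k).symm.surjective t
  have hφ' : Spec.map φ ≫ T.fromSpecResidueField x = t := hφ
  have hz : t z = x := by
    rw [← hφ']
    exact T.fromSpecResidueField_apply x _
  rw [hz]
  obtain ⟨ψ, hψ⟩ := Spec.map_surjective (T.fromSpecResidueField x ≫ σ)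
  have h1 : ψ ≫ φ = 𝟙 _ := by
    apply Spec.map_injective
    rw [Spec.map_comp, hψ, ← Category.assoc, hφ', ht, Spec.map_id]
  have hb : Function.Bijective φ.hom := by
    refine ⟨φ.hom.injective, fun y => ⟨ψ.hom y, ?_⟩⟩
    exact congr($(congrArg CommRingCat.Hom.hom h1) y)
  have hiso : IsIso φ := (ConcreteCategory.isIso_iff_bijective φ).2 hb
  have H' : IsPullback a (b ≫ Spec.map φ) p (T.fromSpecResidueField x) := by
    refine IsPullback.of_iso H (Iso.refl _) (Iso.refl _) (asIso (Spec.map φ)) (Iso.refl _) ?_ ?_ ?_ ?_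
    · simp
    · simp
    · simp
    · simp [hφ']
  have H'' : IsPullback (p.fiberι x) (p.fiberToSpecResidueField x) p (T.fromSpecResidueField x) :=
    IsPullback.of_hasPullback _ _
  let θ : p.fiber x ≅ P := H''.isoIsPullback _ _ H'
  have hθ : θ.hom ≫ a = p.fiberι x := H''.isoIsPullback_hom_fst _ _ H'
  obtain ⟨e⟩ := K325.Models.nonempty_pull hθ G
  have h2 : FlatMod.IsFinLocFree ((Scheme.Modules.pullback θ.hom).obj ((Scheme.Modules.pullback a).obj G)) :=
    Groth.Agent.PerfB.FlatPull.isFinLocFree_pullback _ h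
  exact Groth.Agent.Dcoh.FinLocFree.isFinLocFree_of_iso e h2

/-- Local freeness over a neighbourhood of a rational point. -/
theorem exists_open {k : Type u} [Field k] {W T : Scheme.{u}} (p : W ⟶ T) [UniversallyClosed p]
    [IsLocallyNoetherian W] (σ : T ⟶ Spec (CommRingCat.of k))
    (t : Spec (CommRingCat.of k) ⟶ T) (ht : t ≫ σ = 𝟙 _) {P : Scheme.{u}} {a : P ⟶ W}
    {b : P ⟶ Spec (CommRingCat.of k)} (H : IsPullback a b p t) {G : W.Modules} (hG : Coh.IsCoh G)
    (hfl : FlatMod.IsFlatOver p G) (h : FlatMod.IsFinLocFree ((Scheme.Modules.pullback a).obj G)) :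
    ∃ N : T.Opens, (∀ z, t z ∈ N) ∧ ∀ x : W, p x ∈ N → x ∈ LocFree.FF G := by
  let z₀ : Spec (CommRingCat.of k) := IsLocalRing.closedPoint k
  obtain ⟨N, hN, hN'⟩ := LocFree.exists_open p hG hfl (t z₀) (fiber_flf p σ t ht H h z₀)
  refine ⟨N, fun z => ?_, hN'⟩
  have : z = z₀ := Subsingleton.elim (α := PrimeSpectrum k) _ _
  rw [this]
  exact hN

end K506.FibModel
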