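import Mathlib.AlgebraicGeometry.Morphisms.Etale
import Mathlib.AlgebraicGeometry.PullbackCarrier
import Mathlib.RingTheory.Jacobson.Ring
import Mathlib.RingTheory.Localization.FractionRing

/-!
# Points over the generic point with values in finite extensions (helper506; density node of S16926)
-/

set_option autoImplicit false
universe u

open CategoryTheory CategoryTheory.Limits AlgebraicGeometry TopologicalSpace

namespace K506.GenPt

/-- A scheme of finite type over a domain `A` with a point over the generic point has a point with values in a finite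
extension of the fraction field. -/
theorem exists_gen {A : Type u} [CommRing A] [IsDomain A] {T : Scheme.{u}} [IsAffine T]
    (h : T ⟶ Spec (CommRingCat.of A)) [LocallyOfFiniteType h] (x : T)
    (hx : ∀ a : A, a ∈ (show PrimeSpectrum A from h x).asIdeal → a = 0) :
    ∃ (L : Type u) (_ : Field L) (_ : Algebra (FractionRing A) L) (_ : FiniteDimensional (FractionRing A) L)
      (ι : Spec (CommRingCat.of L) ⟶ T), ι ≫ h =
        Spec.map (CommRingCat.ofHom ((algebraMap (FractionRing A) L).comp (algebraMap A (FractionRing A)))) := by
  let K := FractionRing A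
  let g : Spec (CommRingCat.of K) ⟶ Spec (CommRingCat.of A) := Spec.map (CommRingCat.ofHom (algebraMap A K))
  let P := pullback h g
  let y : Spec (CommRingCat.of K) := (⊥ : PrimeSpectrum K)
  have hy : h x = g y := by
    apply PrimeSpectrum.ext
    ext a
    constructor
    · intro ha
      rw [hx a ha]
      exact zero_mem _
    · intro ha
      have h1 : algebraMap A K a ∈ (⊥ : PrimeSpectrum K).asIdeal := ha
      have h2 : algebraMap A K a = 0 := h1
      rw [(FaithfulSMul.algebraMap_injective A K) (h2.trans (map_zero _).symm)]
      exact zero_mem _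
  obtain ⟨z, -, -⟩ := Scheme.Pullback.exists_preimage_pullback x y hy
  have hP : IsAffine P := inferInstance
  let R := Γ(P, ⊤)
  have hne : Nonempty (⊤ : P.Opens) := ⟨⟨z, trivial⟩⟩
  have hnt : Nontrivial R := inferInstance
  let κ : K →+* R := ((pullback.snd h g).appTop.hom).comp (Scheme.ΓSpecIso (CommRingCat.of K)).inv.hom
  have hκ : κ.FiniteType := by
    have h1 : (pullback.snd h g).appTop.hom.FiniteType :=
      (HasRingHomProperty.iff_of_isAffine (P := @LocallyOfFiniteType)).1 inferInstance
    exact h1.comp (RingHom.FiniteType.of_surjective _ (ConcreteCategory.bijective_of_isIso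
      (Scheme.ΓSpecIso (CommRingCat.of K)).inv).2)
  let _ : Algebra K R := κ.toAlgebra
  have hft : Algebra.FiniteType K R := hκ
  obtain ⟨𝔪, h𝔪⟩ := Ideal.exists_maximal R
  let L := R ⧸ 𝔪
  let _ : Field L := Ideal.Quotient.field 𝔪
  have hftL : Algebra.FiniteType K L := inferInstance
  have hfin : Module.Finite K L := finite_of_finite_type_of_isJacobsonRing K L
  refine ⟨L, inferInstance, inferInstance, hfin,
    Spec.map (CommRingCat.ofHom (Ideal.Quotient.mk 𝔪)) ≫ P.isoSpec.inv ≫ pullback.fst h g, ?_⟩
  have h1 : P.isoSpec.inv ≫ pullback.snd h g = Spec.map (CommRingCat.ofHom κ) := by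
    rw [← Scheme.isoSpec_inv_naturality, Scheme.isoSpec_Spec_inv, ← Spec.map_comp]
    rfl
  rw [Category.assoc, Category.assoc, pullback.condition, ← Category.assoc P.isoSpec.inv, h1, ← Spec.map_comp,
    ← Spec.map_comp]
  rfl

end K506.GenPt
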