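import Groth.Agent.BunMod.K325.FibLocFree
import Groth.Agent.BunMod.K325.Models
import Groth.Agent.PerfB.FlatPull

/-!
# Local freeness of a flat family near a fibre (helper506; density node of S16926)
-/

set_option autoImplicit false
universe u

open CategoryTheory CategoryTheory.Limits AlgebraicGeometry TopologicalSpace

namespace K506.LocFree

variable {W T : Scheme.{u}}

/-- The points near which a module is free. -/
def FF (G : W.Modules) : Set W := {x | ∃ (V : W.Opens) (n : ℕ), x ∈ V ∧ Nonempty (G.restrict V.ι ≅ FlatMod.freeMod V n)}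

theorem isOpen_FF (G : W.Modules) : IsOpen (FF G) :=
  isOpen_iff_forall_mem_open.2 fun _ ⟨V, n, hx, e⟩ => ⟨V, fun _ hy => ⟨V, n, hy, e⟩, V.isOpen, hx⟩

/-- A coherent flat module which is locally free on the fibre over `t` is locally free over a neighbourhood of `t`. -/
theorem exists_open (p : W ⟶ T) [UniversallyClosed p] [IsLocallyNoetherian W] {G : W.Modules} (hG : Coh.IsCoh G)
    (hfl : FlatMod.IsFlatOver p G) (t : T)
    (h : FlatMod.IsFinLocFree ((Scheme.Modules.pullback (p.fiberι t)).obj G)) :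
    ∃ N : T.Opens, t ∈ N ∧ ∀ x : W, p x ∈ N → x ∈ FF G := by
  have hcl : IsClosed (p '' (FF G)ᶜ) := p.isClosedMap _ (isOpen_FF G).isClosed_compl
  refine ⟨⟨_, hcl.isOpen_compl⟩, ?_, ?_⟩
  · rintro ⟨y, hy, rfl⟩
    apply hy
    obtain ⟨h4, h5⟩ := Groth.Agent.Dcoh.StalkFF.FF_of_isFinLocFree h (p.asFiber y)
    have h6 := K139.FibFree.free_stalk_of_free_fiber p hG hfl (p y) (p.asFiber y) h4
    rw [p.fiberι_asFiber] at h6
    exact Groth.Agent.Divis.StalkMod.exists_free_nhd hG y h6
  · intro x hx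
    by_contra hcon
    exact hx ⟨x, hcon, rfl⟩

/-- Pull-backs along morphisms into the free locus are locally free. -/
theorem isFinLocFree_pullback {W' : Scheme.{u}} (a : W' ⟶ W) {G : W.Modules} (h : ∀ x, a x ∈ FF G) :
    FlatMod.IsFinLocFree ((Scheme.Modules.pullback a).obj G) := by
  intro x
  obtain ⟨V, n, hV, ⟨e⟩⟩ := h x
  exact ⟨a ⁻¹ᵁ V, n, hV, ⟨(Groth.Agent.PerfB.FlatPull.pullbackRestrict a V).app G ≪≫
    (Scheme.Modules.pullback (a ∣_ V)).mapIso e ≪≫ Groth.Agent.PerfB.FlatPull.pullbackFreeMod _ n⟩⟩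

end K506.LocFree
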