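import Groth.Agent.BunMod.K506.LocFree
import Groth.Agent.BunMod.K429.ConstSS
import Groth.Agent.BunMod.K311.Fam
import Groth.Agent.BunMod.K140.Transport
import Groth.Agent.BunMod.K824.Join
import Groth.Agent.Lim8.K116.RankLim

/-!
# Families near a rational point: rank and semistability (helper506; density node of S16926)
-/

set_option autoImplicit false
universe u

open CategoryTheory CategoryTheory.Limits AlgebraicGeometry TopologicalSpace

namespace K506.Nbhd

open Groth.Agent K140.BM K116.RankLim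

/-- A module which is locally free and of rank `n` on the fibre is of rank `n` over a neighbourhood. -/
theorem exists_open_rank {W T : Scheme.{u}} (p : W ⟶ T) [UniversallyClosed p] {G : W.Modules}
    (hG : FlatMod.IsFinLocFree G) {n : ℕ} {P : Scheme.{u}} {κ : Type u} [Field κ] {a : P ⟶ W}
    {b : P ⟶ Spec (CommRingCat.of κ)} {t : Spec (CommRingCat.of κ) ⟶ T} (H : IsPullback a b p t)
    (h : FlatMod.IsFinLocFreeOfRank n ((Scheme.Modules.pullback a).obj G)) :
    ∃ N : T.Opens, (∀ z, t z ∈ N) ∧ ∀ x, p x ∈ N → x ∈ locus n G := by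
  have hcl : IsClosed (p '' ((locus n G : Set W))ᶜ) := p.isClosedMap _ (locus n G).isOpen.isClosed_compl
  refine ⟨⟨_, hcl.isOpen_compl⟩, ?_, ?_⟩
  · rintro z ⟨y, hy, hyz⟩
    apply hy
    obtain ⟨w, hw, -⟩ := AlgebraicGeometry.Scheme.exists_preimage_of_isPullback H y z hyz
    obtain ⟨U, m, hU, e⟩ := hG y
    obtain ⟨V, hV, e'⟩ := h w
    subst hw
    have h1 := rank_unique (x := w) (U := a ⁻¹ᵁ U) hU hV (nonempty_iso_restrict_pullback a e) e'
    subst h1
    exact mem_locus.2 ⟨U, hU, e⟩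
  · intro x hx
    by_contra hcon
    exact hx ⟨x, hcon, rfl⟩

variable {k : Type u} [Field k] {X : Scheme.{u}} [X.Over (Spec (CommRingCat.of k))]
  [IsProper (X ↘ Spec (CommRingCat.of k))] [Smooth (X ↘ Spec (CommRingCat.of k))]
  [GeometricallyConnected (X ↘ Spec (CommRingCat.of k))]

/-- **Families are admissible near a rational point with semistable fibre.** -/
theorem exists_ok (hdim : topologicalKrullDim X = 1) {r : ℕ} (hr : 1 ≤ r) (T : Over (B0 k)) [IsAffine T.left]
    [LocallyOfFiniteType T.hom] (t : Over.mk (𝟙 (B0 k)) ⟶ T) {F : (PicF.XT (st k X) T).Modules}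
    (hF : FlatMod.IsFinLocFree F) {F₀ : X.Modules} (hF₀ : FlatMod.IsFinLocFreeOfRank r F₀)
    (hd : Curv2.deg k X F₀ r = 0) (hss : ModFun.IsSlopeSemistable k X F₀ r)
    (e : Nonempty (pl k X t F ≅ cst k (Over.mk (𝟙 (B0 k))) F₀)) :
    ∃ N : T.left.Opens, (∀ z, t.left z ∈ N) ∧ BunMod.ussOK (st k X) r 0 (opn T N) (pl k X (opi T N) F) := by
  obtain ⟨e⟩ := e
  have hTn : IsLocallyNoetherian T.left := LocallyOfFiniteType.isLocallyNoetherian T.hom
  have hTn' : IsNoetherian T.left := ⟨⟩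
  have hr₀ : FlatMod.IsFinLocFreeOfRank r (pl k X t F) :=
    isFinLocFreeOfRank_of_iso e.symm (PerfB.FibreConc.isFinLocFreeOfRank_pullback _ hF₀)
  obtain ⟨N₁, hN₁, hN₁'⟩ := exists_open_rank (PicF.XTproj (st k X) T) hF
    (Groth.Agent.Fga.RelCart.isPullback_XTmap (st k X) t) hr₀
  obtain ⟨t₁, ht₁⟩ := exists_opn N₁ t hN₁
  let T₁ := opn T N₁
  let F₁ := pl k X (opi T N₁) F
  have hF₁ : FlatMod.IsFinLocFreeOfRank r F₁ := isFinLocFreeOfRank_pullback' _ fun x => hN₁' _ (by
    have h := congr($((Groth.Agent.Fga.RelCart.isPullback_XTmap (st k X) (opi T N₁)).w) x)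
    rw [← Scheme.Hom.comp_apply, h, Scheme.Hom.comp_apply]
    exact (PicF.XTproj (st k X) T₁ x).2)
  have hN : IsNoetherian T₁.left := by
    have h1 : IsLocallyNoetherian T₁.left := isLocallyNoetherian_of_isOpenImmersion N₁.ι
    have h2 : CompactSpace T₁.left := isCompact_iff_compactSpace.1 (TopologicalSpace.NoetherianSpace.isCompact _)
    exact {}
  have hssb : SSB r (𝟙 (B0 k)) (pl k X t₁ F₁) := by
    refine K319.SumFam.ssb_of_iso (plC t₁ (opi T N₁) F ≪≫ eqToIso (by rw [ht₁]) ≪≫ e).symm ?_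
    exact K429.ConstSS.ssb_cst hdim (by omega) hF₀ hd hss (𝟙 (B0 k))
  obtain ⟨U, hU₁, hU₂⟩ := K824.Join.exists_open hdim hr T₁ F₁ hF₁ t₁ hssb
  let N : T.left.Opens := N₁.ι ''ᵁ U
  obtain ⟨g, hg⟩ := exists_opn N₁ (opi T N) (fun x => by
    obtain ⟨y, -, hy⟩ := x.2
    have h1 : (opi T N).left x = N₁.ι y := hy.symm
    rw [h1]
    exact y.2)
  refine ⟨N, fun z => ?_, ?_⟩
  · have hz : z = IsLocalRing.closedPoint k := Subsingleton.elim (α := PrimeSpectrum k) _ _
    subst hz
    refine ⟨t₁.left (IsLocalRing.closedPoint k), hU₁, ?_⟩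
    have h1 := congr(($ht₁).left (IsLocalRing.closedPoint k))
    exact h1
  · rw [K311.Fam.ussOK_iff]
    refine ⟨?_, fun Ω _ _ s c => ?_⟩
    · have h1 := PerfB.FibreConc.isFinLocFreeOfRank_pullback (PicF.XTmap (st k X) g) hF₁
      exact isFinLocFreeOfRank_of_iso (plC g (opi T N₁) F ≪≫ eqToIso (by rw [hg])) h1
    · have h1 : (c ≫ g).left (IsLocalRing.closedPoint Ω) ∈ U := by
        let x := c.left (IsLocalRing.closedPoint Ω)
        obtain ⟨y, hy, hy'⟩ := (show (opn T N).left from x).2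
        have h2 : N₁.ι (g.left x) = N₁.ι y := by
          have h3 := congr(($hg).left x)
          exact h3.trans hy'.symm
        have h4 : g.left x = y := N₁.ι.isOpenEmbedding.injective h2
        change g.left x ∈ U
        rw [h4]
        exact hy
      refine K319.SumFam.ssb_of_iso ?_ (hU₂ Ω s (c ≫ g) h1)
      exact plC (c ≫ g) (opi T N₁) F ≪≫ eqToIso (by rw [Category.assoc, hg]) ≪≫ (plC c (opi T N) F).symm

end K506.Nbhd
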