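import Groth.Agent.S19678
import Groth.Agent.S3229
import Groth.Agent.BunMod.K325.Models
import Groth.Agent.Deform.K683.Quot.Rep

/-!
# Unobstructed quotients spread out (helper506; density node of S16926)

`exists_etale_quot`: `f : Y ⟶ S` projective, `S` of finite type over `k`, `H` flat over `S`; a submodule `K₀` of the
fibre of `H` at a `k`-point with `Hom(K₀, H/K₀) = 0` and `Ext¹(K₀, H/K₀) = 0` extends to an etale neighbourhood.
-/

set_option autoImplicit false
universe u

open CategoryTheory CategoryTheory.Limits AlgebraicGeometry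

namespace K506.QuotEt

open Groth.Agent Groth.Agent.Fga.QTDefs Groth.Agent.Fga.QT6a

theorem fin0 {k M : Type*} [Field k] [AddCommGroup M] (i : Module k M) (h : Subsingleton M) :
    @Module.finrank k M _ _ i = 0 := Module.finrank_zero_of_subsingleton

/-- Unobstructed quotients extend to etale neighbourhoods. -/
theorem exists_etale_quot {k : Type u} [Field k] [IsAlgClosed k] {Y S : Scheme.{u}}
    (σ : S ⟶ Spec (CommRingCat.of k)) [LocallyOfFiniteType σ] [IsSeparated σ] [QuasiCompact σ] {f : Y ⟶ S}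
    [IsProper f] {L : Y.Modules} (hL : RelAmple.IsRelVeryAmplePn f L)
    (H : Y.Modules) (hH : Coh.IsCoh H) (hHf : FlatMod.IsFlatOver f H)
    (s : Spec (CommRingCat.of k) ⟶ S) (hs : s ≫ σ = 𝟙 _) (K₀ : FGA.QuotSet f H (Over.mk s))
    (h0 : Subsingleton (Subobject.underlying.obj K₀.1 ⟶ cokernel K₀.1.arrow))
    [HasExt.{u} (PicF.XT f (Over.mk s)).Modules]
    (h1 : Subsingleton (Abelian.Ext.{u} (Subobject.underlying.obj K₀.1) (cokernel K₀.1.arrow) 1)) :
    ∃ (T : Over S) (t : Over.mk s ⟶ T) (K : FGA.QuotSet f H T), Etale T.hom ∧ IsLocallyNoetherian T.left ∧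
      FGA.quotPull f H t K.1 = K₀.1 := by
  have hN : IsNoetherian S := K683.Rep.isNoetherian σ
  obtain ⟨n, g₀, hcl, -⟩ := K325.QuotFam.exists_toPS hL
  have hf : toPS g₀ f ≫ CohB1.ProjSpaceOver.toBase n S = f := by
    exact toPS_toBase f g₀
  obtain ⟨Q, Ku, hQ, -⟩ := Groth.Agent.S3229.result S n Y (toPS g₀ f) H hH
  revert Ku hQ
  rw [hf]
  intro Ku hQ
  have : IsLocallyNoetherian (Over.mk s).left := inferInstanceAs (IsLocallyNoetherian (Spec (CommRingCat.of k)))
  obtain ⟨g, hg, -⟩ := hQ.2 (Over.mk s) K₀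
  obtain ⟨U, hU, hsm⟩ := Groth.Agent.S19678.result S σ Y f ⟨n, toPS g₀ f, hcl, hf⟩ H hH hHf Q Ku hQ s hs K₀ g hg h1
  have hsm' : SmoothOfRelativeDimension 0 (U.ι ≫ Q.hom) := by
    convert hsm using 1
    exact (fin0 _ h0).symm
  have het : Etale (U.ι ≫ Q.hom) := (Etale.iff_smoothOfRelativeDimension_zero _).2 hsm'
  let T : Over S := Over.mk (U.ι ≫ Q.hom)
  have hrange : Set.range g.left ⊆ Set.range U.ι := by
    rintro _ ⟨x, rfl⟩
    have hx : x = IsLocalRing.closedPoint k := Subsingleton.elim (α := PrimeSpectrum k) _ _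
    subst hx
    exact (Scheme.Opens.range_ι U).symm ▸ hU
  let t₀ : Spec (CommRingCat.of k) ⟶ U := IsOpenImmersion.lift U.ι g.left hrange
  have ht₀ : t₀ ≫ U.ι = g.left := IsOpenImmersion.lift_fac _ _ _
  let t : Over.mk s ⟶ T := Over.homMk t₀ (by
    change t₀ ≫ U.ι ≫ Q.hom = s
    rw [← Category.assoc, ht₀]
    exact Over.w g)
  let c : T ⟶ Q := Over.homMk U.ι rfl
  have htc : t ≫ c = g := by
    ext1
    exact ht₀
  have hQn : IsLocallyNoetherian Q.left := hQ.1
  have hTn : IsLocallyNoetherian T.left := inferInstanceAs (IsLocallyNoetherian (U : Scheme.{u}))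
  refine ⟨T, t, ⟨FGA.quotPull f H c Ku.1, Fga.QuotPull.quotPull_mem f H c Ku.2⟩, het, hTn, ?_⟩
  rw [← hg, ← htc, Fga.QuotPull.quotPull_comp]

end K506.QuotEt
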