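import Groth.Agent.BunMod.K506.Shrink
import Groth.Agent.BunMod.K524.X1Open

/-!
# Seeds (helper506; density node of S16926)
-/

set_option autoImplicit false
universe u

open CategoryTheory CategoryTheory.Limits AlgebraicGeometry TopologicalSpace MonoidalCategory

namespace K506.Seed

open Groth.Agent K140.BM K54.Theta K506.SubT K506.Shrink K536.Asm K824.Join K890.KS K890.Seed K207.SumConst K524.X1Fam
open scoped Groth.Agent.Dcoh.MonCat

variable {k : Type u} [Field k] {X : Scheme.{u}} [X.Over (Spec (CommRingCat.of k))]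

/-- A family of subbundles over the spectrum of a `k`-algebra as a `SubFam`. -/
theorem exists_subFam {K G : X.Modules} {M : ℕ} (e : Fin M → (K ⟶ G)) {A : Type u} [CommRing A] [Algebra k A]
    (c : Fin M → A) {N : X.Modules} (hN : PicF.IsInvertible N) {r m : ℕ} {R : Type u} [CommRing R] [Algebra k R]
    (ψ : A →ₐ[k] R) (c' : Fin M → R) (hc : ∀ i, c' i = ψ (c i)) {E F : (PicF.XT (st k X) (SpA k R)).Modules}
    (h : SubT (VA e A c) N (SpA k R) (mA ψ) E F) (okE : BunMod.ussOK (st k X) r 0 (SpA k R) E)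
    (okF : BunMod.ussOK (st k X) m 0 (SpA k R) F) : ∃ s : SubFam k e R c' N r m, s.E = E ∧ s.F = F := by
  obtain ⟨C, hC, ⟨i⟩, h1, h3, hp, ht, hE, hF⟩ := h
  obtain ⟨I, -⟩ := exists_bc e ψ c c' hc
  let J : C.X₂ ≅ VA e R c' := i ≪≫ I
  have hQ : FlatMod.IsFinLocFreeOfRank m C.X₃ := by
    obtain ⟨ht⟩ := ht
    refine K116.RankLim.isFinLocFreeOfRank_of_iso ht ?_
    have h4 := K451.DetPic.rank_tensor okF.1 (Ega2.QCohLocal.isFinLocFreeOfRank_one_iff.mpr
      (Groth.Agent.Fdesc.LocGen.isInvertible_pullback (pullback.fst (st k X) (SpA k R).hom) hN))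
    rwa [mul_one] at h4
  have hw : (C.f ≫ J.hom) ≫ J.inv ≫ C.g = 0 := by
    rw [Category.assoc, Iso.hom_inv_id_assoc, C.zero]
  exact ⟨{ S := C.X₁, Q := C.X₃, E := E, F := F, i := C.f ≫ J.hom, p := J.inv ≫ C.g, w := hw,
           ex := shortExact_cong (w := C.zero) hC J hw, hS := rank_of_pairing hp okE.1, hQ := hQ, pair := hp,
           tw := ht, okE := okE, okF := okF }, rfl, rfl⟩

/-- An etale scheme over the spectrum of a domain has points over the generic point. -/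
theorem exists_pt_generic {A : Type u} [CommRing A] [IsDomain A] {T : Scheme.{u}} (h : T ⟶ Spec (CommRingCat.of A))
    [Etale h] (x₀ : T) : ∃ x : T, ∀ a : A, a ∈ (show PrimeSpectrum A from h x).asIdeal → a = 0 := by
  have ho : IsOpen (Set.range h) := h.isOpenMap.isOpen_range
  have h1 : (⊥ : PrimeSpectrum A) ⤳ (show PrimeSpectrum A from h x₀) :=
    (PrimeSpectrum.le_iff_specializes _ _).1 bot_le
  obtain ⟨x, hx⟩ := h1.mem_open ho ⟨x₀, rfl⟩
  refine ⟨x, fun a ha => ?_⟩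
  have h2 : (show PrimeSpectrum A from h x) = ⊥ := hx
  rw [h2] at ha
  exact ha

variable [IsAlgClosed k] [IsProper (X ↘ Spec (CommRingCat.of k))] [Smooth (X ↘ Spec (CommRingCat.of k))]
  [GeometricallyConnected (X ↘ Spec (CommRingCat.of k))]

/-- **Seeds.** -/
theorem exists_seed (hdim : topologicalKrullDim X = 1) {r m : ℕ} (hr : 1 ≤ r) (hm : 1 ≤ m) {N : X.Modules}
    (hN : PicF.IsInvertible N) {K G : X.Modules} (hK : FlatMod.IsFinLocFreeOfRank 1 K)
    (hG : FlatMod.IsFinLocFreeOfRank (r + m + 1) G) {M : ℕ} (e : Fin M → (K ⟶ G)) (a : Fin M → k)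
    {E₀ F₀ : X.Modules} (hE₀ : FlatMod.IsFinLocFreeOfRank r E₀)
    (hEd : Curv2.deg k X E₀ r = 0) (hEs : ModFun.IsSlopeSemistable k X E₀ r)
    (hF₀ : FlatMod.IsFinLocFreeOfRank m F₀) (hFd : Curv2.deg k X F₀ m = 0) (hFs : ModFun.IsSlopeSemistable k X F₀ m)
    {C₀ : ShortComplex X.Modules} (ex : C₀.ShortExact) (eV : Nonempty (C₀.X₂ ≅ cokernel (ua e a)))
    (hV : FlatMod.IsFinLocFreeOfRank (r + m) C₀.X₂) (hp : Nonempty (ExactPairing C₀.X₁ E₀))
    (tw₀ : Nonempty (CohB1.tensorMod F₀ N ≅ C₀.X₃))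
    (h0 : Subsingleton (Coh.HH X (CohB1.tensorMod (CohB1.tensorMod E₀ F₀) N) 0))
    (h1 : Subsingleton (Coh.HH X (CohB1.tensorMod (CohB1.tensorMod E₀ F₀) N) 1))
    {M₁ : Over (B0 k)} (φ₁ : (BunMod.USS (st k X) r 0).Hom ⊤ M₁) (D : M₁.left.Opens)
    (hD : ∀ (h : BunMod.ussOK (st k X) r 0 (Over.mk (𝟙 (B0 k))) (cst k _ E₀)) (z), (cl φ₁ (cst k _ E₀) h).left z ∈ D) :
    ∃ (L : Type u) (_ : Field L) (_ : Algebra k L) (_ : Algebra (KK k M) L) (_ : IsScalarTower k (KK k M) L)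
      (_ : FiniteDimensional (KK k M) L) (s : SubFam k e L (crd k M L) N r m),
      thetaIdeal k N (SpA k L) (CohB1.tensorMod s.E s.F) = ⊤ ∧ (cl φ₁ s.E s.okE).left (K429.Val.pt0 k L) ∈ D := by
  have hk : IsProper (st k X) := ‹IsProper (X ↘ Spec (CommRingCat.of k))›
  obtain ⟨hp'⟩ := hp
  obtain ⟨eV⟩ := eV
  have hNf : FlatMod.IsFinLocFree N := K707.Base.isFinLocFree_of_rank (Ega2.QCohLocal.isFinLocFreeOfRank_one_iff.mpr hN)
  let B : Over (B0 k) := SpA k (PP k M)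
  let c : Fin M → PP k M := fun i => MvPolynomial.X i
  let V : (PicF.XT (st k X) B).Modules := VA e (PP k M) c
  obtain ⟨A, hA⟩ := exists_good (r := r + m) e hK hG B (fun i => fn k (c i))
  let b : Over.mk (𝟙 (B0 k)) ⟶ B := pA (MvPolynomial.aeval (R := k) a)
  have hbc : (fun i => b.left.appTop (fn k (c i))) = fun i => (Over.mk (𝟙 (B0 k))).hom.appTop (kOf k (a i)) := by
    funext i
    refine (appTop_kOf (MvPolynomial.aeval (R := k) a).toRingHom (MvPolynomial.X i)).trans ?_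
    have h2 : (MvPolynomial.aeval (R := k) a).toRingHom (MvPolynomial.X i) = a i := MvPolynomial.aeval_X a i
    rw [h2]
    have h3 : (Over.mk (𝟙 (B0 k))).hom.appTop = 𝟙 _ := Scheme.Hom.id_appTop
    rw [h3]
    rfl
  obtain ⟨i₁⟩ := nonempty_pl e b (fun i => fn k (c i))
  rw [hbc] at i₁
  obtain ⟨i₂⟩ := nonempty_cst e (Over.mk (𝟙 (B0 k))) a
  have iV : cst k (Over.mk (𝟙 (B0 k))) C₀.X₂ ≅ pl k X b V :=
    (Scheme.Modules.pullback _).mapIso eV ≪≫ i₂.symm ≪≫ i₁.symm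
  have hb : ∀ z, b.left z ∈ A := (hA _ b).1 (K116.RankLim.isFinLocFreeOfRank_of_iso iV
    (PerfB.FibreConc.isFinLocFreeOfRank_pullback _ hV))
  have hAV : FlatMod.IsFinLocFree (pl k X (opi B A) V) :=
    K707.Base.isFinLocFree_of_rank ((hA _ (opi B A)).2 fun x => x.2)
  have hC3 : FlatMod.IsFinLocFree C₀.X₃ := by
    obtain ⟨t⟩ := tw₀
    exact Dcoh.FinLocFree.isFinLocFree_of_iso t
      (Sga67.LocBasis.isFinLocFree_tensorMod (K707.Base.isFinLocFree_of_rank hF₀) hNf)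
  have hh : ∀ i, Subsingleton (Coh.HH X (CohB1.tensorMod (CohB1.tensorMod E₀ F₀) N) i) →
      Subsingleton (Coh.HH X (CohB1.tensorMod C₀.X₃ E₀) i) := by
    intro i h
    obtain ⟨t⟩ := tw₀
    have j1 : CohB1.tensorMod (CohB1.tensorMod E₀ F₀) N ≅ CohB1.tensorMod E₀ (CohB1.tensorMod F₀ N) := α_ E₀ F₀ N
    have j2 : CohB1.tensorMod E₀ C₀.X₃ ≅ CohB1.tensorMod C₀.X₃ E₀ := β_ E₀ C₀.X₃
    exact Fga.HShift.subsingleton_of_iso (j1 ≪≫ ASBun.K791.Tens.tensMap (Iso.refl _) t ≪≫ j2) i h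
  have hBf : LocallyOfFiniteType B.hom := by
    refine (HasRingHomProperty.Spec_iff (P := @LocallyOfFiniteType)).2 ?_
    have : Algebra.FiniteType k (MvPolynomial (Fin M) k) := inferInstance
    exact (RingHom.finiteType_algebraMap).2 this
  obtain ⟨T, q, t, E, F, hTa, hq, hsub, eE, eF⟩ := exists_subT hdim hAV b hb hN ex ⟨iV⟩
    (K707.Base.isFinLocFree_of_rank hE₀) hC3 tw₀ (hh 0 h0) (hh 1 h1)
  have hTf : LocallyOfFiniteType T.hom := by
    rw [← Over.w q]
    infer_instance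
  obtain ⟨-, -, -, -, -, -, -, hEf, hFf⟩ := id hsub
  obtain ⟨U, okE, hU, okF, hUD, hU₂⟩ := exists_shrink hdim hr hm hNf T t hEf hFf hE₀ hEd hEs hF₀ hFd hFs eE eF h1 φ₁ D hD
  obtain ⟨t₁, -⟩ := exists_opn U t hU
  obtain ⟨_, ⟨W, hW, rfl⟩, hzW, -⟩ := (opn T U).left.isBasis_affineOpens.exists_subset_of_mem_open
    (Set.mem_univ (t₁.left (IsLocalRing.closedPoint k))) isOpen_univ
  let h : (W : Scheme.{u}) ⟶ Spec (CommRingCat.of (PP k M)) :=
    Scheme.Opens.ι W ≫ Scheme.Opens.ι U ≫ q.left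
  have hWa : IsAffine (W : Scheme.{u}) := hW
  have hhe : Etale h := inferInstance
  obtain ⟨x, hx⟩ := exists_pt_generic h (⟨_, hzW⟩ : (W : Scheme.{u}))
  obtain ⟨L, _, _, hfd, ι, hι⟩ := GenPt.exists_gen h x hx
  let _ : Algebra k L := ((algebraMap (KK k M) L).comp (algebraMap k (KK k M))).toAlgebra
  have hst : IsScalarTower k (KK k M) L := IsScalarTower.of_algebraMap_eq' rfl
  let ψ : PP k M →ₐ[k] L :=
    { toRingHom := (algebraMap (KK k M) L).comp (algebraMap (PP k M) (KK k M))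
      commutes' := fun z => by
        change algebraMap (KK k M) L (algebraMap (PP k M) (KK k M) (algebraMap k (PP k M) z)) =
          algebraMap (KK k M) L (algebraMap k (KK k M) z)
        rw [← IsScalarTower.algebraMap_apply k (PP k M) (KK k M)] }
  have hψ : (ι ≫ Scheme.Opens.ι W) ≫ Scheme.Opens.ι U ≫ q.left = Spec.map (CommRingCat.ofHom ψ.toRingHom) := by
    rw [Category.assoc]
    exact hι
  let g : SpA k L ⟶ opn T U := Over.homMk (ι ≫ Scheme.Opens.ι W) (by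
    change (ι ≫ Scheme.Opens.ι W) ≫ Scheme.Opens.ι U ≫ T.hom = Spec.map (CommRingCat.ofHom (algebraMap k L))
    rw [← Over.w q, ← Category.assoc (Scheme.Opens.ι U), ← Category.assoc (ι ≫ Scheme.Opens.ι W), hψ]
    change Spec.map _ ≫ Spec.map (CommRingCat.ofHom (algebraMap k (PP k M))) = _
    rw [← Spec.map_comp, ← CommRingCat.ofHom_comp])
  have hgq : g ≫ opi T U ≫ q = mA ψ := by
    ext1
    exact hψ
  have okE' : BunMod.ussOK (st k X) r 0 (SpA k L) (pl k X g (pl k X (opi T U) E)) := K562.OkPull.ussOK_pull _ g okE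
  have okF' : BunMod.ussOK (st k X) m 0 (SpA k L) (pl k X g (pl k X (opi T U) F)) := K562.OkPull.ussOK_pull _ g okF
  have hs : SubT V N (SpA k L) (g ≫ opi T U ≫ q) (pl k X g (pl k X (opi T U) E)) (pl k X g (pl k X (opi T U) F)) :=
    (hsub.pull (opi T U)).pull g
  rw [hgq] at hs
  obtain ⟨s, hsE, hsF⟩ := exists_subFam e c hN ψ (crd k M L) (fun i => rfl) hs okE' okF'
  refine ⟨L, inferInstance, inferInstance, inferInstance, hst, hfd, s, ?_, ?_⟩
  · have hEU : FlatMod.IsFinLocFree (pl k X (opi T U) E) := PerfC.PullRestrict.isFinLocFree_pullback _ hEf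
    have hFU : FlatMod.IsFinLocFree (pl k X (opi T U) F) := PerfC.PullRestrict.isFinLocFree_pullback _ hFf
    have hEFU := Sga67.LocBasis.isFinLocFree_tensorMod hEU hFU
    have e1 := thetaIdeal_pl hdim.le hNf g hEFU
    rw [hU₂, Scheme.IdealSheafData.comap_top] at e1
    rw [hsE, hsF, e1]
    exact thetaIdeal_iso hdim.le hNf (Sga67.LocBasis.isFinLocFree_tensorMod
      (PerfC.PullRestrict.isFinLocFree_pullback _ hEU) (PerfC.PullRestrict.isFinLocFree_pullback _ hFU))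
      (PerfC.PullRestrict.isFinLocFree_pullback _ hEFU) (ASBun.K791.Tens.pullTens _ _ _).symm
  · have e1 : cl φ₁ s.E s.okE = g ≫ cl φ₁ _ okE := by
      rw [← cl_pull φ₁ g okE okE']
      exact cl_congr φ₁ ⟨eqToIso hsE⟩ _ _
    rw [e1]
    exact hUD _

end K506.Seed
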