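import Groth.Agent.BunMod.K506.Seed
import Groth.Agent.BunMod.K276.Data
import Groth.Agent.BunMod.K706.Pair0
import Groth.Agent.BunMod.K619.AdmPt
import Groth.Agent.BunMod.K54.Supp
import Groth.Agent.BunMod.K319.Main
import Groth.Agent.Flat2H.ThickFibre
import Groth.Agent.Ega2.BlowBasic

/-!
# Seeds in every nonempty open subset of the moduli space (helper506; density node of S16926)

`seed_of_data`: the statement `K536.Asm.SEED` for the data of `K276.Data`.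
-/

set_option autoImplicit false
universe u

open CategoryTheory CategoryTheory.Limits AlgebraicGeometry TopologicalSpace MonoidalCategory

namespace K506.SeedMain

open Groth.Agent Groth.Agent.VarietyA.DegRank K140.BM K707.Base K707.Deg K707.Semi K54.Theta K536.Asm K619.Adm
open scoped Groth.Agent.Dcoh.MonCat

/-- Rational points of nonempty opens. -/
theorem exists_kpt {k : Type u} [Field k] [IsAlgClosed k] (M : Over (B0 k)) [LocallyOfFiniteType M.hom]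
    (U : M.left.Opens) (hU : (U : Set M.left).Nonempty) :
    ∃ p : Over.mk (𝟙 (B0 k)) ⟶ M, ∀ z, p.left z ∈ U := by
  have hj : JacobsonSpace M.left := LocallyOfFiniteType.jacobsonSpace M.hom
  obtain ⟨y, hy⟩ := hU
  have h1 : y ∈ closure ((Set.univ : Set M.left) ∩ closedPoints M.left) := by
    rw [JacobsonSpace.closure_inter_closedPoints isClosed_univ]
    trivial
  obtain ⟨x, hx, -, hxc'⟩ := mem_closure_iff.1 h1 U U.isOpen hy
  have hxc : IsClosed ({x} : Set M.left) := hxc'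
  refine ⟨Over.homMk (pointOfClosedPoint M.hom x hxc) (pointOfClosedPoint_comp M.hom x hxc), fun z => ?_⟩
  have h2 : pointOfClosedPoint M.hom x hxc z = x := pointOfClosedPoint_apply M.hom x hxc z
  change pointOfClosedPoint M.hom x hxc z ∈ U
  rw [h2]
  exact hx

variable {k : Type u} [Field k] {X : Scheme.{u}} [X.Over (Spec (CommRingCat.of k))]

/-- A constant family with trivial theta ideal has no `H¹`. -/
theorem subsingleton_of_thetaIdeal [IsProper (st k X)] (hdim : topologicalKrullDim X ≤ 1) {N E₀ : X.Modules}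
    (hN : FlatMod.IsFinLocFree N) (hE₀ : FlatMod.IsFinLocFree E₀)
    (h : thetaIdeal k N (Over.mk (𝟙 (B0 k))) (cst k _ E₀) = ⊤) :
    Subsingleton (Coh.HH X (CohB1.tensorMod E₀ N) 1) := by
  let T : Over (B0 k) := Over.mk (𝟙 (B0 k))
  have hi : IsIso (pullback.fst (st k X) T.hom) := inferInstanceAs (IsIso (pullback.fst (st k X) (𝟙 (B0 k))))
  have h1 := K54.Supp.mem_support_iff' hdim hN (isFinLocFree_cst T hE₀) (𝟙 (B0 k)) (𝟙 T) (IsLocalRing.closedPoint k)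
  have h2 : ¬ ((𝟙 T : T ⟶ T).left (IsLocalRing.closedPoint k) ∈ (thetaIdeal k N T (cst k T E₀)).support) := by
    rw [h]
    exact fun h => h
  have h3 := not_not.1 ((not_iff_not.2 h1).1 h2)
  have hq : Coh.IsQCoh (CohB1.tensorMod E₀ N) :=
    PerfA.QCohEpi.isQCoh_of_isFinLocFree (Sga67.LocBasis.isFinLocFree_tensorMod hE₀ hN)
  refine (Flat2H.ThickFibre.subsingleton_HH_pullback_iff (pullback.fst (st k X) T.hom) _ hq 1).1 ?_
  refine Fga.HShift.subsingleton_of_iso ?_ 1 h3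
  exact ASBun.K791.Tens.tensMap (K311.Fam.plId (cst k T E₀)) (Iso.refl _) ≪≫ (ASBun.K791.Tens.pullTens _ _ _).symm

variable [IsAlgClosed k] [IsProper (X ↘ Spec (CommRingCat.of k))] [Smooth (X ↘ Spec (CommRingCat.of k))]
  [GeometricallyConnected (X ↘ Spec (CommRingCat.of k))]

/-- A semistable bundle without sections whose class lies in a given open subset. -/
theorem exists_E₀ (hdim : topologicalKrullDim X = 1) {g : ℕ} (hg : Curv2.genus k X = g) {N : X.Modules}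
    (hN : PicF.IsInvertible N) (hNd : Curv2.deg k X N 1 = (g : ℤ) - 1) {r : ℕ} {M₁ : Over (B0 k)}
    (φ₁ : (BunMod.USS (st k X) r 0).Hom ⊤ M₁) (hM₁ : BunMod.IsModSS (st k X) ⊤ r 0 M₁ φ₁)
    [LocallyOfFiniteType M₁.hom] (t₁ : K319.Main.IsTheta φ₁ N) (he : BlowUp.IsEffCartierIdeal (K319.Main.vI φ₁ N))
    (D : M₁.left.Opens) (hD : (D : Set M₁.left).Nonempty) :
    ∃ E₀ : X.Modules, FlatMod.IsFinLocFreeOfRank r E₀ ∧ Curv2.deg k X E₀ r = 0 ∧ ModFun.IsSlopeSemistable k X E₀ r ∧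
      Subsingleton (Coh.HH X (CohB1.tensorMod E₀ N) 0) ∧
      ∀ (h : BunMod.ussOK (st k X) r 0 (Over.mk (𝟙 (B0 k))) (cst k _ E₀)) (z), (cl φ₁ (cst k _ E₀) h).left z ∈ D := by
  have hk : IsProper (st k X) := ‹IsProper (X ↘ Spec (CommRingCat.of k))›
  have hint : IsIntegral X := K325.StabFib.isIntegral_X k X hdim
  have hNf : FlatMod.IsFinLocFree N := isFinLocFree_of_rank (Ega2.QCohLocal.isFinLocFreeOfRank_one_iff.mpr hN)
  have C : Crv k X := Crv.of_smooth hdim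
  let O : M₁.left.Opens := ⟨((K319.Main.vI φ₁ N).support : Set M₁.left)ᶜ, (K319.Main.vI φ₁ N).support.isClosed.isOpen_compl⟩
  have hO : Dense (O : Set M₁.left) := Ega2.BlowBasic.dense_offSupport he
  have hDO : ((D ⊓ O : M₁.left.Opens) : Set M₁.left).Nonempty := hO.inter_open_nonempty D D.isOpen hD
  obtain ⟨p, hp⟩ := exists_kpt M₁ (D ⊓ O) hDO
  obtain ⟨E, hE, hEp⟩ := (hM₁.2.2 k (𝟙 (B0 k)) trivial).1 p
  obtain ⟨f1, f2, f3⟩ := facts_ip hdim hE.2 (𝟙 _) (Category.comp_id _)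
  obtain ⟨e⟩ := nonempty_cst_iso (k := k) (X := X) E
  let E₀ : X.Modules := (Scheme.Modules.pullback (ι0 k X)).obj E
  have f1' : FlatMod.IsFinLocFreeOfRank r E₀ := f1
  have f2' : Curv2.deg k X E₀ r = 0 := by
    rw [← dg_of_rank k f1']
    exact f2
  have hcl : ∀ h : BunMod.ussOK (st k X) r 0 (Over.mk (𝟙 (B0 k))) (cst k _ E₀), cl φ₁ (cst k _ E₀) h = p := fun h => by
    rw [← hEp]
    exact (Shrink.cl_congr φ₁ ⟨e⟩ hE.2 h).symm
  have hok : BunMod.ussOK (st k X) r 0 (Over.mk (𝟙 (B0 k))) (cst k _ E₀) := K562.OkPull.ussOK_iso _ e hE.2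
  have hθ : thetaIdeal k N (Over.mk (𝟙 (B0 k))) (cst k _ E₀) = ⊤ := by
    rw [← t₁ _ _ ⟨trivial, hok⟩]
    refine K242.ThetaCst.eq_top_of_support _ fun y hy => ?_
    rw [Scheme.IdealSheafData.support_comap] at hy
    have h1 : (cl φ₁ (cst k _ E₀) hok).left y ∈ (K319.Main.vI φ₁ N).support := hy
    rw [hcl hok] at h1
    exact (hp y).2 h1
  have h1 := subsingleton_of_thetaIdeal hdim.le hNf (isFinLocFree_of_rank f1') hθ
  refine ⟨E₀, f1', f2', (ss_iff C f1').1 f3, ?_, fun h z => ?_⟩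
  · refine (K706.Xi.h01_iff (k := k) hdim (K757.Geo.rank_tw C f1' hN) ?_).2 h1
    rw [K757.Geo.deg_tw C f1' hN, f2', hNd, hg]
    ring
  · rw [hcl h]
    exact (hp z).1

/-- **(SEEDS)** -/
theorem seed_of_data (hdim : topologicalKrullDim X = 1) {g : ℕ} (hg : Curv2.genus k X = g) {N : X.Modules}
    (hN : PicF.IsInvertible N) (hNd : Curv2.deg k X N 1 = (g : ℤ) - 1) {r m : ℕ} (hr : 1 ≤ r) (hm : 2 ≤ m)
    {D₀ : X.Modules} (hD₀ : PicF.IsInvertible D₀) (hD₀d : Curv2.deg k X D₀ 1 = m * ((g : ℤ) - 1))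
    (Dt : K276.Data k X r m N D₀) {M₁ : Over (B0 k)}
    (φ₁ : (BunMod.USS (st k X) r 0).Hom ⊤ M₁) (hM₁ : BunMod.IsModSS (st k X) ⊤ r 0 M₁ φ₁)
    [LocallyOfFiniteType M₁.hom] (t₁ : K319.Main.IsTheta φ₁ N) (he : BlowUp.IsEffCartierIdeal (K319.Main.vI φ₁ N)) :
    SEED Dt.e N φ₁ m := by
  intro D hD
  obtain ⟨E₀, hE₀, hEd, hEs, h0, hED⟩ := exists_E₀ hdim hg hN hNd φ₁ hM₁ t₁ he D hD
  obtain ⟨F₀, δ, dE, hF₀, hFd, hFs, -, -, -, -, -, z0, z1, H⟩ :=
    K706.Pair0.exists_pair k X hdim g hg hN hNd hr hm E₀ hE₀ hEd h0 D₀ hD₀ hD₀d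
  obtain ⟨S₀, hS₀, ⟨p1⟩, ⟨p2⟩⟩ := K53.FlfAdj.exists_pairing_symm (isFinLocFree_of_rank hE₀)
  obtain ⟨rV, -, dV, -, -, -⟩ := H S₀
  obtain ⟨a, ⟨ia⟩⟩ := Dt.onto E₀ F₀ S₀ _ hE₀ hEd hEs hF₀ hFd hFs ⟨p1⟩ ⟨Iso.refl _⟩ dV
  let C₀ : ShortComplex X.Modules := ShortComplex.mk (biprod.inl : S₀ ⟶ S₀ ⊞ CohB1.tensorMod F₀ N) biprod.snd (by simp)
  have hC₀ : C₀.ShortExact := K319.SemiZero.shortExact_biprod _ _
  exact Seed.exists_seed hdim hr (by omega) hN Dt.hK Dt.hG Dt.e a hE₀ hEd hEs hF₀ hFd hFs (C₀ := C₀) hC₀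
    ⟨ia.symm⟩ rV ⟨p2⟩ ⟨Iso.refl _⟩ z0 z1 φ₁ D hED

end K506.SeedMain
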