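import Groth.Agent.BunMod.K506.SubT
import Groth.Agent.BunMod.K242.ThetaCst
import Groth.Agent.BunMod.K319.Sect
import Groth.Agent.BunMod.K536.AsmDefs

/-!
# Shrinking families of subbundles (helper506; density node of S16926)
-/

set_option autoImplicit false
universe u

open CategoryTheory CategoryTheory.Limits AlgebraicGeometry TopologicalSpace MonoidalCategory

namespace K506.Shrink

open Groth.Agent K140.BM K54.Theta K506.SubT K536.Asm
open scoped Groth.Agent.Dcoh.MonCat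

variable {k : Type u} [Field k] {X : Scheme.{u}} [X.Over (Spec (CommRingCat.of k))]

/-- Pull-back along `opn T U ⟶ opn T U'`. -/
theorem exists_fac (T : Over (B0 k)) {U U' : T.left.Opens} (h : U ≤ U') :
    ∃ g : opn T U ⟶ opn T U', g ≫ opi T U' = opi T U := exists_opn U' (opi T U) (fun x => h x.2)

theorem cl_congr {r : ℕ} {M : Over (B0 k)} (φ : (BunMod.USS (st k X) r 0).Hom ⊤ M) {T : Over (B0 k)}
    {E E' : (PicF.XT (st k X) T).Modules} (e : Nonempty (E ≅ E')) (h : BunMod.ussOK (st k X) r 0 T E)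
    (h' : BunMod.ussOK (st k X) r 0 T E') : cl φ E h = cl φ E' h' :=
  K319.Sect.app_congr φ e ⟨trivial, h⟩ ⟨trivial, h'⟩

theorem cl_pull {r : ℕ} {M : Over (B0 k)} (φ : (BunMod.USS (st k X) r 0).Hom ⊤ M) {T T' : Over (B0 k)}
    (g : T' ⟶ T) {E : (PicF.XT (st k X) T).Modules} (h : BunMod.ussOK (st k X) r 0 T E)
    (h' : BunMod.ussOK (st k X) r 0 T' (pl k X g E)) : cl φ (pl k X g E) h' = g ≫ cl φ E h :=
  φ.natural g E trivial trivial ⟨trivial, h⟩ ⟨trivial, h'⟩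

theorem ok_sub {r : ℕ} (T : Over (B0 k)) {E : (PicF.XT (st k X) T).Modules} {U U' : T.left.Opens} (hU : U ≤ U')
    (h : BunMod.ussOK (st k X) r 0 (opn T U') (pl k X (opi T U') E)) :
    BunMod.ussOK (st k X) r 0 (opn T U) (pl k X (opi T U) E) := by
  obtain ⟨g, hg⟩ := exists_fac T hU
  exact K562.OkPull.ussOK_iso _ (plC g (opi T U') E ≪≫ eqToIso (by rw [hg])) (K562.OkPull.ussOK_pull _ g h)

variable [IsProper (X ↘ Spec (CommRingCat.of k))] [Smooth (X ↘ Spec (CommRingCat.of k))]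
  [GeometricallyConnected (X ↘ Spec (CommRingCat.of k))]

/-- **Shrinking.** -/
theorem exists_shrink (hdim : topologicalKrullDim X = 1) {r m : ℕ} (hr : 1 ≤ r) (hm : 1 ≤ m) {N : X.Modules}
    (hN : FlatMod.IsFinLocFree N) (T : Over (B0 k)) [IsAffine T.left] [LocallyOfFiniteType T.hom]
    (t : Over.mk (𝟙 (B0 k)) ⟶ T) {E F : (PicF.XT (st k X) T).Modules} (hE : FlatMod.IsFinLocFree E)
    (hF : FlatMod.IsFinLocFree F) {E₀ F₀ : X.Modules} (hE₀ : FlatMod.IsFinLocFreeOfRank r E₀)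
    (hEd : Curv2.deg k X E₀ r = 0) (hEs : ModFun.IsSlopeSemistable k X E₀ r)
    (hF₀ : FlatMod.IsFinLocFreeOfRank m F₀) (hFd : Curv2.deg k X F₀ m = 0) (hFs : ModFun.IsSlopeSemistable k X F₀ m)
    (eE : Nonempty (pl k X t E ≅ cst k _ E₀)) (eF : Nonempty (pl k X t F ≅ cst k _ F₀))
    (h1 : Subsingleton (Coh.HH X (CohB1.tensorMod (CohB1.tensorMod E₀ F₀) N) 1))
    {M₁ : Over (B0 k)} (φ₁ : (BunMod.USS (st k X) r 0).Hom ⊤ M₁) (D : M₁.left.Opens)
    (hD : ∀ (h : BunMod.ussOK (st k X) r 0 (Over.mk (𝟙 (B0 k))) (cst k _ E₀)) (z), (cl φ₁ (cst k _ E₀) h).left z ∈ D) :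
    ∃ (U : T.left.Opens) (okE : BunMod.ussOK (st k X) r 0 (opn T U) (pl k X (opi T U) E)),
      (∀ z, t.left z ∈ U) ∧ BunMod.ussOK (st k X) m 0 (opn T U) (pl k X (opi T U) F) ∧
      (∀ x, (cl φ₁ _ okE).left x ∈ D) ∧
      thetaIdeal k N (opn T U) (CohB1.tensorMod (pl k X (opi T U) E) (pl k X (opi T U) F)) = ⊤ := by
  have hk : IsProper (st k X) := ‹IsProper (X ↘ Spec (CommRingCat.of k))›
  obtain ⟨N₁, hN₁, ok₁⟩ := Nbhd.exists_ok hdim hr T t hE hE₀ hEd hEs eE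
  obtain ⟨N₂, hN₂, ok₂⟩ := Nbhd.exists_ok hdim hm T t hF hF₀ hFd hFs eF
  let z₁ : opn T N₁ ⟶ M₁ := cl φ₁ _ ok₁
  let U₁ : T.left.Opens := Scheme.Hom.opensFunctor (Scheme.Opens.ι N₁) |>.obj (z₁.left ⁻¹ᵁ D)
  have hEF : FlatMod.IsFinLocFree (CohB1.tensorMod E F) := Sga67.LocBasis.isFinLocFree_tensorMod hE hF
  let I := thetaIdeal k N T (CohB1.tensorMod E F)
  let U₂ : T.left.Opens := ⟨(I.support : Set T.left)ᶜ, I.support.isClosed.isOpen_compl⟩
  obtain ⟨t₁, ht₁⟩ := exists_opn N₁ t hN₁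
  obtain ⟨eE⟩ := eE
  obtain ⟨eF⟩ := eF
  have hU₁ : U₁ ≤ N₁ := by
    rintro _ ⟨y, -, rfl⟩
    exact y.2
  refine ⟨U₁ ⊓ N₂ ⊓ U₂, ok_sub T (inf_le_left.trans (inf_le_left.trans hU₁)) ok₁, fun z => ⟨⟨?_, hN₂ z⟩, ?_⟩,
    ok_sub T (inf_le_left.trans inf_le_right) ok₂, ?_, ?_⟩
  · have hc : BunMod.ussOK (st k X) r 0 (Over.mk (𝟙 (B0 k))) (cst k _ E₀) :=
      K429.ConstSS.ussOK_cst hdim (by omega) hE₀ hEd hEs _
    have hok : BunMod.ussOK (st k X) r 0 (Over.mk (𝟙 (B0 k))) (pl k X t₁ (pl k X (opi T N₁) E)) :=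
      K562.OkPull.ussOK_pull _ t₁ ok₁
    have e1 : cl φ₁ (cst k _ E₀) hc = t₁ ≫ z₁ := by
      rw [← cl_pull φ₁ t₁ ok₁ hok]
      exact cl_congr φ₁ ⟨eE.symm ≪≫ eqToIso (by rw [ht₁]) ≪≫ (plC t₁ (opi T N₁) E).symm⟩ _ _
    have e2 := hD hc z
    rw [e1] at e2
    refine ⟨t₁.left z, e2, ?_⟩
    have e3 := congr(($ht₁).left z)
    exact e3
  · have e1 : I.comap t.left = ⊤ := by
      refine (thetaIdeal_pl hdim.le hN t hEF).trans ?_
      have i1 : pl k X t (CohB1.tensorMod E F) ≅ cst k (Over.mk (𝟙 (B0 k))) (CohB1.tensorMod E₀ F₀) :=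
        ASBun.K791.Tens.pullTens _ _ _ ≪≫ ASBun.K791.Tens.tensMap eE eF ≪≫ (ASBun.K791.Tens.pullTens _ _ _).symm
      have hEF₀ : FlatMod.IsFinLocFree (CohB1.tensorMod E₀ F₀) := Sga67.LocBasis.isFinLocFree_tensorMod
        (K707.Base.isFinLocFree_of_rank hE₀) (K707.Base.isFinLocFree_of_rank hF₀)
      rw [thetaIdeal_iso hdim.le hN (PerfC.PullRestrict.isFinLocFree_pullback _ hEF) (isFinLocFree_cst _ hEF₀) i1]
      exact K242.ThetaCst.thetaIdeal_eq_top hdim.le hN hEF₀ h1 _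
    intro hz
    have e2 : z ∈ (I.comap t.left).support := by
      rw [Scheme.IdealSheafData.support_comap]
      exact hz
    rw [e1] at e2
    exact e2
  · intro x
    obtain ⟨g, hg⟩ := exists_fac T (inf_le_left.trans (inf_le_left.trans hU₁) : U₁ ⊓ N₂ ⊓ U₂ ≤ N₁)
    have e1 : cl φ₁ (pl k X (opi T (U₁ ⊓ N₂ ⊓ U₂)) E) (ok_sub T (inf_le_left.trans (inf_le_left.trans hU₁)) ok₁) =
        g ≫ z₁ := by
      rw [← cl_pull φ₁ g ok₁ (K562.OkPull.ussOK_pull _ g ok₁)]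
      exact cl_congr φ₁ ⟨eqToIso (by rw [hg]) ≪≫ (plC g (opi T N₁) E).symm⟩ _ _
    rw [e1]
    obtain ⟨y, hy, hy'⟩ := (show (opn T (U₁ ⊓ N₂ ⊓ U₂)).left from x).2.1.1
    have e2 : g.left x = y := by
      have e3 := congr(($hg).left x)
      exact (Scheme.Opens.ι N₁).isOpenEmbedding.injective (e3.trans hy'.symm)
    change z₁.left (g.left x) ∈ D
    rw [e2]
    exact hy
  · let j := opi T (U₁ ⊓ N₂ ⊓ U₂)
    have i1 : pl k X j (CohB1.tensorMod E F) ≅ CohB1.tensorMod (pl k X j E) (pl k X j F) :=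
        ASBun.K791.Tens.pullTens _ _ _
    have e1 := thetaIdeal_pl hdim.le hN j hEF
    rw [thetaIdeal_iso hdim.le hN (PerfC.PullRestrict.isFinLocFree_pullback _ hEF)
      (Sga67.LocBasis.isFinLocFree_tensorMod (PerfC.PullRestrict.isFinLocFree_pullback _ hE)
        (PerfC.PullRestrict.isFinLocFree_pullback _ hF)) i1] at e1
    rw [← e1]
    refine K242.ThetaCst.eq_top_of_support _ fun y hy => ?_
    rw [Scheme.IdealSheafData.support_comap] at hy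
    have e2 : j.left y ∈ U₂ := y.2.2
    exact e2 hy

end K506.Shrink
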