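import Groth.Agent.BunMod.K506.QuotEt
import Groth.Agent.BunMod.K506.FibModel
import Groth.Agent.BunMod.K506.ExtModel
import Groth.Agent.BunMod.K325.Spread
import Groth.Agent.CanPar.K795.FibreRank

/-!
# Spreading out of unobstructed extensions (helper506; density node of S16926)
-/

set_option autoImplicit false
universe u

open CategoryTheory CategoryTheory.Limits AlgebraicGeometry TopologicalSpace MonoidalCategory

namespace K506.SpreadSeq

open Groth.Agent Groth.Agent.VarietyA.DegRank K140.BM K707.Base K707.Deg K707.Slope K707.Semi K707.TensL K325.CurveQuot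
  K325.GeomFib K846.FieldPt K325.StabFib K325.QuotFam K325.Models
open scoped Groth.Agent.Dcoh.MonCat

/-- Pull-backs of locally split submodules. -/
theorem nonempty_sub_quotPull {S Y : Scheme.{u}} (f : Y ⟶ S) (H : Y.Modules) {T T' : Over S} (g : T' ⟶ T)
    (K : Subobject (FGA.ET f H T)) (hK : FlatMod.IsFinLocFree (cokernel K.arrow)) :
    Nonempty ((Scheme.Modules.pullback (PicF.XTmap f g)).obj (Subobject.underlying.obj K) ≅
      Subobject.underlying.obj (FGA.quotPull f H g K)) := by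
  let C : ShortComplex (PicF.XT f T).Modules := ShortComplex.mk K.arrow (cokernel.π K.arrow) (cokernel.condition _)
  have hC : C.ShortExact :=
    { exact := ShortComplex.exact_cokernel K.arrow
      mono_f := inferInstanceAs (Mono K.arrow)
      epi_g := inferInstanceAs (Epi (cokernel.π K.arrow)) }
  have hC' : (C.map (Scheme.Modules.pullback (PicF.XTmap f g))).ShortExact :=
    Groth.Agent.Krr.H496.PullK0.shortExact_pullback_of_isFinLocFree _ hC hK
  have i1 : (Scheme.Modules.pullback (PicF.XTmap f g)).obj (Subobject.underlying.obj K) ≅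
      kernel ((Scheme.Modules.pullback (PicF.XTmap f g)).map (cokernel.π K.arrow)) :=
    hC'.fIsKernel.conePointUniqueUpToIso (limit.isLimit _)
  have i2 : kernel (Fga.SubPull.pq (PicF.XTmap f g) (FGA.ETiso f H g) (cokernel.π K.arrow)) ≅
      kernel ((Scheme.Modules.pullback (PicF.XTmap f g)).map (cokernel.π K.arrow)) :=
    kernelIsIsoComp (FGA.ETiso f H g).inv _
  rw [Fga.QuotPull.quotPull_eq]
  exact ⟨i1 ≪≫ i2.symm ≪≫ (kernelSubobjectIso _).symm⟩

/-- The cokernel of the submodule given by a short exact sequence and an identification of its middle term. -/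
theorem coker_mk {W : Scheme.{u}} {C : ShortComplex W.Modules} (hC : C.ShortExact) {M : W.Modules} (η : C.X₂ ≅ M) :
    haveI := hC.mono_f
    Nonempty (cokernel (Subobject.mk (C.f ≫ η.hom)).arrow ≅ C.X₃) := by
  have := hC.mono_f
  have e1 : cokernel (Subobject.mk (C.f ≫ η.hom)).arrow ≅ cokernel (C.f ≫ η.hom) :=
    cokernel.mapIso _ _ (Subobject.underlyingIso _) (Iso.refl _) (by simp)
  have e2 : cokernel (C.f ≫ η.hom) ≅ cokernel C.f :=
    cokernel.mapIso _ _ (Iso.refl _) η.symm (by simp)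
  have e3 : cokernel C.f ≅ C.X₃ := (colimit.isColimit _).coconePointUniqueUpToIso hC.gIsCokernel
  exact ⟨e1 ≪≫ e2 ≪≫ e3⟩

variable {k : Type u} [Field k] [IsAlgClosed k] {X : Scheme.{u}} [X.Over (Spec (CommRingCat.of k))]
  [IsProper (X ↘ Spec (CommRingCat.of k))] [Smooth (X ↘ Spec (CommRingCat.of k))]
  [GeometricallyConnected (X ↘ Spec (CommRingCat.of k))]

/-- **Unobstructed extensions spread out.** -/
theorem exists_spread (hdim : topologicalKrullDim X = 1) (S : Over (B0 k)) [IsAffine S.left]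
    [LocallyOfFiniteType S.hom] {V : (PicF.XT (st k X) S).Modules} (hV : FlatMod.IsFinLocFree V)
    (s : Over.mk (𝟙 (B0 k)) ⟶ S) {C₀ : ShortComplex X.Modules} (hC₀ : C₀.ShortExact)
    (e₀ : cst k (Over.mk (𝟙 (B0 k))) C₀.X₂ ≅ pl k X s V) (h3 : FlatMod.IsFinLocFree C₀.X₃) {E : X.Modules}
    [ExactPairing C₀.X₁ E] [ExactPairing E C₀.X₁] (hE : FlatMod.IsFinLocFree E)
    (h0 : Subsingleton (Coh.HH X (CohB1.tensorMod C₀.X₃ E) 0))
    (h1 : Subsingleton (Coh.HH X (CohB1.tensorMod C₀.X₃ E) 1)) :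
    ∃ (T : Over (B0 k)) (q : T ⟶ S) (t : Over.mk (𝟙 (B0 k)) ⟶ T)
      (C : ShortComplex (PicF.XT (st k X) T).Modules), Etale q.left ∧ t ≫ q = s ∧ C.ShortExact ∧
      Nonempty (C.X₂ ≅ pl k X q V) ∧ FlatMod.IsFinLocFree C.X₁ ∧ FlatMod.IsFinLocFree C.X₃ ∧
      Nonempty (pl k X t C.X₁ ≅ cst k _ C₀.X₁) ∧ Nonempty (pl k X t C.X₃ ≅ cst k _ C₀.X₃) := by
  have hX : IsIntegral X := isIntegral_X k X hdim
  obtain ⟨L, hinv, hL⟩ := exists_pol k X hdim.le
  let fS := PicF.XTproj (st k X) S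
  have hLS : RelAmple.IsRelVeryAmplePn fS (cst k S L) :=
    Groth.Agent.K385.VeryAmpleBC.of_isPullback (IsPullback.of_hasPullback (st k X) S.hom) hL
  have hSn : IsLocallyNoetherian S.left := LocallyOfFiniteType.isLocallyNoetherian S.hom
  have hSsep : IsSeparated S.hom := inferInstance
  have hSqc : QuasiCompact S.hom := inferInstance
  have hs : s.left ≫ S.hom = 𝟙 _ := Over.w s
  -- the model of the fibre
  have Hε : IsPullback (PicF.XTmap (st k X) s) (PicF.XTproj (st k X) (Over.mk (𝟙 (B0 k)))) fS s.left :=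
    Groth.Agent.Fga.RelCart.isPullback_XTmap (st k X) s
  let sO : Over S.left := Over.mk s.left
  let W₀ := PicF.XT fS sO
  let ε₀ : PicF.XT (st k X) (Over.mk (𝟙 (B0 k))) ≅ W₀ := Hε.isoPullback
  have hε₀ : ε₀.hom ≫ pullback.fst fS sO.hom = PicF.XTmap (st k X) s := Hε.isoPullback_hom_fst
  have hε₀' : ε₀.inv ≫ PicF.XTmap (st k X) s = pullback.fst fS sO.hom := by
    rw [← hε₀, Iso.inv_hom_id_assoc]
  let fst₀ : PicF.XT (st k X) (Over.mk (𝟙 (B0 k))) ⟶ X := pullback.fst (st k X) (𝟙 (B0 k))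
  have hfst₀ : IsIso fst₀ := inferInstanceAs (IsIso (pullback.fst (st k X) (𝟙 (B0 k))))
  let ρ : W₀ ⟶ X := ε₀.inv ≫ fst₀
  have hρ : IsIso ρ := inferInstance
  let C' := C₀.map (Scheme.Modules.pullback ρ)
  have hC' : C'.ShortExact := Groth.Agent.Krr.H496.PullK0.shortExact_pullback_of_isFinLocFree _ hC₀ h3
  obtain ⟨i1⟩ := nonempty_pull (p₀ := ε₀.inv) (a := fst₀) (p := ρ) rfl C₀.X₂
  obtain ⟨i2⟩ := nonempty_pull hε₀' V
  let η : C'.X₂ ≅ FGA.ET fS V sO := i1.symm ≪≫ (Scheme.Modules.pullback ε₀.inv).mapIso e₀ ≪≫ i2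
  have := hC'.mono_f
  let K₀ : Subobject (FGA.ET fS V sO) := Subobject.mk (C'.f ≫ η.hom)
  obtain ⟨c₀⟩ := coker_mk hC' η
  have u₀ : Subobject.underlying.obj K₀ ≅ C'.X₁ := Subobject.underlyingIso _
  have hC'3 : FlatMod.IsFinLocFree C'.X₃ := Groth.Agent.PerfB.FlatPull.isFinLocFree_pullback _ h3
  have hK₀3 : FlatMod.IsFinLocFree (cokernel K₀.arrow) := Dcoh.FinLocFree.isFinLocFree_of_iso c₀.symm hC'3
  -- the vanishing of Hom and Ext
  have hext : HasExt.{u} W₀.Modules := by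
    have : EnoughInjectives W₀.Modules := Groth.Agent.S0485.result _ W₀.ringCatSheaf
    exact hasExt_of_enoughInjectives _
  have hQ : Coh.IsQCoh (CohB1.tensorMod C₀.X₃ E) :=
    Groth.Agent.Ega1.TensorRestrict.isQCoh_tensorMod _ _ (Groth.Agent.Ega2.QCohLocal.isQCoh_of_isFinLocFree h3)
      (Groth.Agent.Ega2.QCohLocal.isQCoh_of_isFinLocFree hE)
  have x0 : Subsingleton (Subobject.underlying.obj K₀ ⟶ cokernel K₀.arrow) :=
    ExtModel.hom_subsingleton_of_ext (ExtModel.ext_model ρ hQ 0 h0 u₀ c₀)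
  have x1 : Subsingleton (Abelian.Ext.{u} (Subobject.underlying.obj K₀) (cokernel K₀.arrow) 1) :=
    ExtModel.ext_model ρ hQ 1 h1 u₀ c₀
  have hW₀n : IsLocallyNoetherian W₀ := by
    have : LocallyOfFiniteType (PicF.XTproj fS sO) := by
      change LocallyOfFiniteType (pullback.snd _ _)
      infer_instance
    have : IsLocallyNoetherian sO.left := inferInstanceAs (IsLocallyNoetherian (Spec (CommRingCat.of k)))
    exact LocallyOfFiniteType.isLocallyNoetherian (PicF.XTproj fS sO)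
  have hK₀m : Coh.IsCoh (cokernel K₀.arrow) ∧ FlatMod.IsFlatOver (PicF.XTproj fS sO) (cokernel K₀.arrow) :=
    ⟨PerfA.CohSerre.isCoh_of_isFinLocFree hK₀3, K683.Rep.flat_over_field _ _⟩
  have hXSn : IsLocallyNoetherian (PicF.XT (st k X) S) := LocallyOfFiniteType.isLocallyNoetherian fS
  have hVf : FlatMod.IsFlatOver fS V := K795.FibreRank.isFlatOver_of_isFinLocFree fS hV
  obtain ⟨T₁, t₁, K₁, hT₁, hT₁n, hK₁⟩ := QuotEt.exists_etale_quot S.hom hLS V
    (PerfA.CohSerre.isCoh_of_isFinLocFree hV) hVf s.left hs ⟨K₀, hK₀m⟩ x0 x1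
  -- local freeness near the point
  have ht₁ : t₁.left ≫ T₁.hom ≫ S.hom = 𝟙 _ := by
    have h := Over.w t₁
    rw [← Category.assoc, h]
    exact hs
  have hfWp : IsProper (PicF.XTproj fS T₁) := by
    change IsProper (pullback.snd _ _)
    infer_instance
  have hWn : IsLocallyNoetherian (PicF.XT fS T₁) := LocallyOfFiniteType.isLocallyNoetherian (PicF.XTproj fS T₁)
  have hG₁ : FlatMod.IsFinLocFree ((Scheme.Modules.pullback (PicF.XTmap fS t₁)).obj (cokernel K₁.1.arrow)) := by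
    obtain ⟨e, -⟩ := Fga.QuotPull.exists_cokernel_quotPull fS V t₁ K₁.1
    refine Dcoh.FinLocFree.isFinLocFree_of_iso e ?_
    rw [hK₁]
    exact hK₀3
  obtain ⟨N, hN, hN'⟩ := FibModel.exists_open (PicF.XTproj fS T₁) (T₁.hom ≫ S.hom) t₁.left ht₁
    (Groth.Agent.Fga.RelCart.isPullback_XTmap fS t₁) K₁.2.1 K₁.2.2 hG₁
  -- the open part
  let T₂ : Over S.left := Over.mk (N.ι ≫ T₁.hom)
  let c : T₂ ⟶ T₁ := Over.homMk N.ι rfl
  have hr : Set.range t₁.left ⊆ Set.range N.ι := by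
    rintro _ ⟨z, rfl⟩
    rw [Scheme.Opens.range_ι]
    exact hN z
  let t₂' : Spec (CommRingCat.of k) ⟶ N := IsOpenImmersion.lift N.ι t₁.left hr
  have ht₂' : t₂' ≫ N.ι = t₁.left := IsOpenImmersion.lift_fac _ _ _
  let t₂ : sO ⟶ T₂ := Over.homMk t₂' (by
    change t₂' ≫ N.ι ≫ T₁.hom = s.left
    rw [← Category.assoc, ht₂']
    exact Over.w t₁)
  have htc : t₂ ≫ c = t₁ := by
    ext1
    exact ht₂'
  let K₂ := FGA.quotPull fS V c K₁.1
  have hK₂ : FGA.quotPull fS V t₂ K₂ = K₀ := by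
    rw [← Fga.QuotPull.quotPull_comp, htc]
    exact hK₁
  have hG₂ : FlatMod.IsFinLocFree (cokernel K₂.arrow) := by
    obtain ⟨e, -⟩ := Fga.QuotPull.exists_cokernel_quotPull fS V c K₁.1
    refine Dcoh.FinLocFree.isFinLocFree_of_iso e.symm (LocFree.isFinLocFree_pullback _ fun x => hN' _ ?_)
    have h := congr($((Groth.Agent.Fga.RelCart.isPullback_XTmap fS c).w) x)
    rw [← Scheme.Hom.comp_apply, h, Scheme.Hom.comp_apply]
    exact (PicF.XTproj fS T₂ x).2
  -- back to families over `k`-schemes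
  let T : Over (B0 k) := Over.mk (T₂.hom ≫ S.hom)
  let q : T ⟶ S := Over.homMk T₂.hom rfl
  have Hδ : IsPullback (PicF.XTmap (st k X) q) (PicF.XTproj (st k X) T) fS T₂.hom :=
    Groth.Agent.Fga.RelCart.isPullback_XTmap (st k X) q
  let ε : PicF.XT (st k X) T ≅ PicF.XT fS T₂ := Hδ.isoPullback
  have hε1 : ε.hom ≫ pullback.fst fS T₂.hom = PicF.XTmap (st k X) q := Hδ.isoPullback_hom_fst
  have hε2 : ε.hom ≫ PicF.XTproj fS T₂ = PicF.XTproj (st k X) T := Hδ.isoPullback_hom_snd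
  let t : Over.mk (𝟙 (B0 k)) ⟶ T := Over.homMk t₂' (by
    change t₂' ≫ (N.ι ≫ T₁.hom) ≫ S.hom = 𝟙 _
    rw [Category.assoc, ← Category.assoc, ht₂']
    exact ht₁)
  have htq : t ≫ q = s := by
    ext1
    change t₂' ≫ N.ι ≫ T₁.hom = s.left
    rw [← Category.assoc, ht₂']
    exact Over.w t₁
  have hcomm : PicF.XTmap (st k X) t ≫ ε.hom = ε₀.hom ≫ PicF.XTmap fS t₂ := by
    have a1 : (PicF.XTmap (st k X) t ≫ ε.hom) ≫ pullback.fst fS T₂.hom =
        (ε₀.hom ≫ PicF.XTmap fS t₂) ≫ pullback.fst fS T₂.hom := by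
      rw [Category.assoc, hε1, Category.assoc, FGA.XTmap_fst, hε₀]
      exact Groth.Agent.Fga.QuotPull.XTmap_comp_eq (st k X) htq
    have a2 : (PicF.XTmap (st k X) t ≫ ε.hom) ≫ PicF.XTproj fS T₂ =
        (ε₀.hom ≫ PicF.XTmap fS t₂) ≫ PicF.XTproj fS T₂ := by
      have b1 := (Groth.Agent.Fga.RelCart.isPullback_XTmap (st k X) t).w
      have b2 := (Groth.Agent.Fga.RelCart.isPullback_XTmap fS t₂).w
      have b3 : ε₀.hom ≫ PicF.XTproj fS sO = PicF.XTproj (st k X) (Over.mk (𝟙 (B0 k))) := Hε.isoPullback_hom_snd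
      rw [Category.assoc, hε2, Category.assoc, b1, b2, ← Category.assoc, b3]
      rfl
    exact pullback.hom_ext a1 a2
  let C₂ : ShortComplex (PicF.XT fS T₂).Modules :=
    ShortComplex.mk K₂.arrow (cokernel.π K₂.arrow) (cokernel.condition _)
  have hC₂ : C₂.ShortExact :=
    { exact := ShortComplex.exact_cokernel K₂.arrow
      mono_f := inferInstanceAs (Mono K₂.arrow)
      epi_g := inferInstanceAs (Epi (cokernel.π K₂.arrow)) }
  let C := C₂.map (Scheme.Modules.pullback ε.hom)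
  have hC : C.ShortExact := Groth.Agent.Krr.H496.PullK0.shortExact_pullback_of_isFinLocFree _ hC₂ hG₂
  have hC3 : FlatMod.IsFinLocFree C.X₃ := Groth.Agent.PerfB.FlatPull.isFinLocFree_pullback _ hG₂
  obtain ⟨eV⟩ := nonempty_pull hε1 V
  have e2 : C.X₂ ≅ pl k X q V := eV
  have h2 : FlatMod.IsFinLocFree C.X₂ := Dcoh.FinLocFree.isFinLocFree_of_iso e2.symm
    (Groth.Agent.PerfB.FlatPull.isFinLocFree_pullback _ hV)
  have hC1 : FlatMod.IsFinLocFree C.X₁ := by
    have := hC.epi_g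
    exact Groth.Agent.Dcoh.Spread.isFinLocFree_of_isLimit_kernelFork h2 hC3 C.f C.g C.zero hC.fIsKernel
  -- the fibre
  have hfib : ∀ {A₂ : (PicF.XT fS T₂).Modules} {A₀ : X.Modules}
      (_ : Nonempty ((Scheme.Modules.pullback (PicF.XTmap fS t₂)).obj A₂ ≅ (Scheme.Modules.pullback ρ).obj A₀)),
      Nonempty (pl k X t ((Scheme.Modules.pullback ε.hom).obj A₂) ≅ cst k (Over.mk (𝟙 (B0 k))) A₀) := by
    rintro A₂ A₀ ⟨i⟩
    obtain ⟨j1⟩ := nonempty_pull (p₀ := PicF.XTmap (st k X) t) (a := ε.hom) hcomm A₂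
    obtain ⟨j2⟩ := nonempty_pull (p₀ := ε₀.hom) (a := PicF.XTmap fS t₂) rfl A₂
    obtain ⟨j3⟩ := nonempty_pull (p₀ := ε₀.hom) (a := ρ) (p := fst₀) (by
      rw [← Category.assoc, Iso.hom_inv_id, Category.id_comp]) A₀
    exact ⟨j1 ≪≫ j2.symm ≪≫ (Scheme.Modules.pullback ε₀.hom).mapIso i ≪≫ j3⟩
  refine ⟨T, q, t, C, ?_, htq, hC, ⟨e2⟩, hC1, hC3, hfib ?_, hfib ?_⟩
  · change Etale (N.ι ≫ T₁.hom)
    infer_instance
  · obtain ⟨i⟩ := nonempty_sub_quotPull fS V t₂ K₂ hG₂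
    have i' : Subobject.underlying.obj (FGA.quotPull fS V t₂ K₂) ≅ Subobject.underlying.obj K₀ :=
      Subobject.underlying.mapIso (eqToIso hK₂)
    exact ⟨i ≪≫ i' ≪≫ u₀⟩
  · obtain ⟨e, -⟩ := Fga.QuotPull.exists_cokernel_quotPull fS V t₂ K₂
    have i' : cokernel (FGA.quotPull fS V t₂ K₂).arrow ≅ cokernel K₀.arrow := eqToIso (by rw [hK₂])
    exact ⟨e.symm ≪≫ i' ≪≫ c₀⟩

end K506.SpreadSeq
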