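import Groth.Agent.BunMod.K506.SpreadSeq
import Groth.Agent.BunMod.K506.Nbhd
import Groth.Agent.BunMod.K506.GenPt
import Groth.Agent.BunMod.K890.Seed
import Groth.Agent.VBCurve.K708.Dual

/-!
# Families of subbundles (helper506; density node of S16926)

`SubT V N T q E F`: an exact sequence `0 ⟶ S ⟶ q^* V ⟶ Q ⟶ 0` on `X_T` with `S`, `Q` finite locally free, `E` dual to `S`
and `F ⊗ N ≅ Q`.
-/

set_option autoImplicit false
set_option linter.dupNamespace false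
universe u

open CategoryTheory CategoryTheory.Limits AlgebraicGeometry TopologicalSpace MonoidalCategory

namespace K506.SubT

open Groth.Agent K140.BM K54.Theta
open scoped Groth.Agent.Dcoh.MonCat

variable {k : Type u} [Field k] {X : Scheme.{u}} [X.Over (Spec (CommRingCat.of k))]

/-- A subbundle of the pull-back of the family `V`, with the dual `E` and the quotient `F ⊗ N`. -/
def SubT {B : Over (B0 k)} (V : (PicF.XT (st k X) B).Modules) (N : X.Modules) (T : Over (B0 k)) (q : T ⟶ B)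
    (E F : (PicF.XT (st k X) T).Modules) : Prop :=
  ∃ C : ShortComplex (PicF.XT (st k X) T).Modules, C.ShortExact ∧ Nonempty (C.X₂ ≅ pl k X q V) ∧
    FlatMod.IsFinLocFree C.X₁ ∧ FlatMod.IsFinLocFree C.X₃ ∧ Nonempty (ExactPairing C.X₁ E) ∧
    Nonempty (tw F N ≅ C.X₃) ∧ FlatMod.IsFinLocFree E ∧ FlatMod.IsFinLocFree F

/-- Base change. -/
theorem SubT.pull {B : Over (B0 k)} {V : (PicF.XT (st k X) B).Modules} {N : X.Modules} {T : Over (B0 k)} {q : T ⟶ B}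
    {E F : (PicF.XT (st k X) T).Modules} (h : SubT V N T q E F) {T' : Over (B0 k)} (g : T' ⟶ T) :
    SubT V N T' (g ≫ q) (pl k X g E) (pl k X g F) := by
  obtain ⟨C, hC, ⟨e⟩, h1, h3, ⟨p⟩, ⟨t⟩, h4, h5⟩ := h
  refine ⟨C.map (Scheme.Modules.pullback (PicF.XTmap (st k X) g)),
    Groth.Agent.Krr.H496.PullK0.shortExact_pullback_of_isFinLocFree _ hC h3, ⟨plI g e ≪≫ plC g q V⟩,
    Groth.Agent.PerfB.FlatPull.isFinLocFree_pullback _ h1, Groth.Agent.PerfB.FlatPull.isFinLocFree_pullback _ h3,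
    ExtModel.nonempty_pairing_pull _ _ _, ⟨(twPl g F N).symm ≪≫ plI g t⟩,
    Groth.Agent.PerfB.FlatPull.isFinLocFree_pullback _ h4, Groth.Agent.PerfB.FlatPull.isFinLocFree_pullback _ h5⟩

/-- Duals of locally free modules of rank `n`. -/
theorem rank_of_pairing {Y : Scheme.{u}} {S E : Y.Modules} {n : ℕ} (p : Nonempty (ExactPairing S E))
    (h : FlatMod.IsFinLocFreeOfRank n E) : FlatMod.IsFinLocFreeOfRank n S := by
  obtain ⟨p⟩ := p
  obtain ⟨E', h1, ⟨p'⟩⟩ := K708.Dual.exists_dual h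
  let p'' := BraidedCategory.exactPairing_swap S E
  exact K116.RankLim.isFinLocFreeOfRank_of_iso (rightDualIso p' p'') h1

/-- `(A ⊗ B) ⊗ C ≅ A` if `B ⊗ C ≅ O`. -/
theorem nonempty_cancel {Y : Scheme.{u}} (A : Y.Modules) {B C : Y.Modules}
    (h : Nonempty (CohB1.tensorMod B C ≅ Coh.structureModule Y)) :
    Nonempty (CohB1.tensorMod (CohB1.tensorMod A B) C ≅ A) := by
  obtain ⟨e⟩ := h
  have a : CohB1.tensorMod (CohB1.tensorMod A B) C ≅ CohB1.tensorMod A (CohB1.tensorMod B C) := α_ A B C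
  have b : CohB1.tensorMod A (Coh.structureModule Y) ≅ A := ρ_ A
  exact ⟨a ≪≫ ASBun.K791.Tens.tensMap (Iso.refl _) e ≪≫ b⟩

/-- The twist by the inverse. -/
theorem cst_inv {N N' : X.Modules} (h : Nonempty (CohB1.tensorMod N N' ≅ Coh.structureModule X))
    (T : Over (B0 k)) : Nonempty (CohB1.tensorMod (cst k T N) (cst k T N') ≅ Coh.structureModule _) := by
  obtain ⟨e⟩ := h
  exact ⟨(ASBun.K791.Tens.pullTens _ _ _).symm ≪≫ (Scheme.Modules.pullback _).mapIso e ≪≫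
    PerfB.FlatPull.pullbackUnit _⟩

theorem nonempty_swap {Y : Scheme.{u}} {A B C : Y.Modules} (h : Nonempty (CohB1.tensorMod A B ≅ C)) :
    Nonempty (CohB1.tensorMod B A ≅ C) := by
  obtain ⟨e⟩ := h
  exact ⟨(show CohB1.tensorMod B A ≅ CohB1.tensorMod A B from β_ B A) ≪≫ e⟩

/-- Duals are unique. -/
theorem nonempty_dual {Y : Scheme.{u}} {A A' B B' : Y.Modules} (e : Nonempty (A ≅ A'))
    (p : Nonempty (ExactPairing A B)) (p' : Nonempty (ExactPairing A' B')) : Nonempty (B ≅ B') := by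
  obtain ⟨e⟩ := e
  obtain ⟨p⟩ := p
  obtain ⟨p'⟩ := p'
  exact ⟨rightDualIso p (exactPairingCongrLeft e)⟩

variable [IsAlgClosed k] [IsProper (X ↘ Spec (CommRingCat.of k))] [Smooth (X ↘ Spec (CommRingCat.of k))]
  [GeometricallyConnected (X ↘ Spec (CommRingCat.of k))]

/-- **Unobstructed subbundles spread out.** -/
theorem exists_subT (hdim : topologicalKrullDim X = 1) {B : Over (B0 k)} [LocallyOfFiniteType B.hom]
    {V : (PicF.XT (st k X) B).Modules} {A : B.left.Opens} (hA : FlatMod.IsFinLocFree (pl k X (opi B A) V))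
    (b : Over.mk (𝟙 (B0 k)) ⟶ B) (hb : ∀ z, b.left z ∈ A) {N : X.Modules} (hN : PicF.IsInvertible N)
    {C₀ : ShortComplex X.Modules} (ex : C₀.ShortExact)
    (eV : Nonempty (cst k (Over.mk (𝟙 (B0 k))) C₀.X₂ ≅ pl k X b V)) {E₀ F₀ : X.Modules} [ExactPairing C₀.X₁ E₀]
    (hE₀ : FlatMod.IsFinLocFree E₀) (h3 : FlatMod.IsFinLocFree C₀.X₃) (tw₀ : Nonempty (CohB1.tensorMod F₀ N ≅ C₀.X₃))
    (h0 : Subsingleton (Coh.HH X (CohB1.tensorMod C₀.X₃ E₀) 0))
    (h1 : Subsingleton (Coh.HH X (CohB1.tensorMod C₀.X₃ E₀) 1)) :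
    ∃ (T : Over (B0 k)) (q : T ⟶ B) (t : Over.mk (𝟙 (B0 k)) ⟶ T) (E F : (PicF.XT (st k X) T).Modules),
      IsAffine T.left ∧ Etale q.left ∧ SubT V N T q E F ∧
      Nonempty (pl k X t E ≅ cst k _ E₀) ∧ Nonempty (pl k X t F ≅ cst k _ F₀) := by
  obtain ⟨eV⟩ := eV
  let z₀ : Spec (CommRingCat.of k) := IsLocalRing.closedPoint k
  obtain ⟨_, ⟨U, hU, rfl⟩, hzU, hUA⟩ := B.left.isBasis_affineOpens.exists_subset_of_mem_open (hb z₀) A.isOpen
  have hbU : ∀ z, b.left z ∈ U := fun z => by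
    have : z = z₀ := Subsingleton.elim (α := PrimeSpectrum k) _ _
    rw [this]
    exact hzU
  obtain ⟨g, hg⟩ := exists_opn A (opi B U) (fun x => hUA x.2)
  obtain ⟨s, hs⟩ := exists_opn U b hbU
  have hSa : IsAffine (opn B U).left := hU
  have hSf : LocallyOfFiniteType (opn B U).hom := inferInstanceAs (LocallyOfFiniteType (Scheme.Opens.ι U ≫ B.hom))
  have hVS : FlatMod.IsFinLocFree (pl k X (opi B U) V) :=
    Dcoh.FinLocFree.isFinLocFree_of_iso (plC g (opi B A) V ≪≫ eqToIso (by rw [hg]))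
      (PerfB.FlatPull.isFinLocFree_pullback _ hA)
  let sw : ExactPairing E₀ C₀.X₁ := BraidedCategory.exactPairing_swap _ _
  obtain ⟨T, q, t, C, hq, htq, hC, ⟨e2⟩, hC1, hC3, ⟨i1⟩, ⟨i3⟩⟩ := SpreadSeq.exists_spread hdim (opn B U) hVS s ex
    (eV ≪≫ eqToIso (by rw [hs]) ≪≫ (plC s (opi B U) V).symm) h3 hE₀ h0 h1
  obtain ⟨N', hN', hNN'⟩ := Groth.Agent.Grpsch.PicGrp.exists_inverse hN
  obtain ⟨E, hE, hp, -⟩ := K53.FlfAdj.exists_pairing_symm hC1
  obtain ⟨_, ⟨W, hW, rfl⟩, hzW, -⟩ := T.left.isBasis_affineOpens.exists_subset_of_mem_open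
    (Set.mem_univ (t.left z₀)) isOpen_univ
  obtain ⟨t', ht'⟩ := exists_opn W t fun z => by
    have : z = z₀ := Subsingleton.elim (α := PrimeSpectrum k) _ _
    rw [this]
    exact hzW
  let F := tw C.X₃ N'
  have hsub : SubT V N T (q ≫ opi B U) E F :=
    ⟨C, hC, ⟨e2 ≪≫ plC q (opi B U) V⟩, hC1, hC3, hp, nonempty_cancel _ (nonempty_swap (cst_inv hNN' T)), hE,
      isFinLocFree_tw hC3 (K707.Base.isFinLocFree_of_rank (Ega2.QCohLocal.isFinLocFreeOfRank_one_iff.mpr hN'))⟩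
  refine ⟨opn T W, opi T W ≫ q ≫ opi B U, t', pl k X (opi T W) E, pl k X (opi T W) F, hW, ?_,
    hsub.pull (opi T W), ?_, ?_⟩
  · change Etale (Scheme.Opens.ι W ≫ q.left ≫ Scheme.Opens.ι U)
    infer_instance
  · have h2 : Nonempty (pl k X t E ≅ cst k _ E₀) := by
      obtain ⟨hp⟩ := hp
      exact nonempty_dual ⟨i1⟩ (ExtModel.nonempty_pairing_pull _ C.X₁ E) (ExtModel.nonempty_pairing_pull _ C₀.X₁ E₀)
    obtain ⟨h2⟩ := h2
    exact ⟨plC t' (opi T W) E ≪≫ eqToIso (by rw [ht']) ≪≫ h2⟩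
  · obtain ⟨tw₀⟩ := tw₀
    obtain ⟨c⟩ := nonempty_cancel F₀ hNN'
    exact ⟨plC t' (opi T W) F ≪≫ eqToIso (by rw [ht']) ≪≫ twPl t C.X₃ N' ≪≫
      ASBun.K791.Tens.tensMap i3 (Iso.refl _) ≪≫ (ASBun.K791.Tens.pullTens _ _ _).symm ≪≫
      (Scheme.Modules.pullback _).mapIso (ASBun.K791.Tens.tensMap tw₀.symm (Iso.refl _) ≪≫ c)⟩

end K506.SubT
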